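import Groth.Agent.AssLib.FlatFibre
import Groth.Agent.MorLib.WeightFlat
import Groth.Agent.SchDenseLib.Basic
import Mathlib.AlgebraicGeometry.Morphisms.SchemeTheoreticallyDominant
import Mathlib.AlgebraicGeometry.Morphisms.Etale

/-!
# Scheme-theoretic dominance of flat morphisms via associated points
-/

set_option autoImplicit false
set_option linter.style.haveILetI false

universe u

open CategoryTheory CategoryTheory.Limits AlgebraicGeometry TopologicalSpace IsLocalRing

namespace Groth.Agent.AssSTD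

variable {X Y : Scheme.{u}}

/-- Associated points on an affine open, ring-theoretically. -/
theorem mem_ass_affine_iff [IsLocallyNoetherian X] {U : X.Opens} (hU : IsAffineOpen U) {x : X} (hx : x ∈ U) :
    x ∈ AssSch.Ass (Coh.structureModule X) ↔
      (hU.primeIdealOf ⟨x, hx⟩).asIdeal ∈ associatedPrimes Γ(X, U) Γ(X, U) :=
  AssLib.mem_ass_iff (PnCoh.isQCoh_structureModule X) hU hx

theorem germ_eq_zero_iff {U : X.Opens} (hU : IsAffineOpen U) {x : X} (hx : x ∈ U) (s : Γ(X, U)) :
    X.presheaf.germ U x hx s = 0 ↔ ∃ r ∉ (hU.primeIdealOf ⟨x, hx⟩).asIdeal, r * s = 0 := by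
  letI := QCoh.stalkAlg (X := X) hx
  haveI := QCoh.isLocalization_stalk' hU hx
  refine (IsLocalization.map_eq_zero_iff (hU.primeIdealOf ⟨x, hx⟩).asIdeal.primeCompl (X.presheaf.stalk x) s).trans ?_
  exact ⟨fun ⟨⟨r, hr⟩, h⟩ => ⟨r, hr, h⟩, fun ⟨r, hr, h⟩ => ⟨⟨r, hr⟩, h⟩⟩

/-- A flat morphism to a locally noetherian scheme is scheme-theoretically dominant iff its image contains the
associated points. -/
theorem iff_ass_subset_range (u : X ⟶ Y) [Flat u] [IsLocallyNoetherian Y] :
    IsSchemeTheoreticallyDominant u ↔ AssSch.Ass (Coh.structureModule Y) ⊆ Set.range u.base := by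
  constructor
  · intro hu η hη
    by_contra hne
    let W : Y.Opens := ⟨(closure {η})ᶜ, isClosed_closure.isOpen_compl⟩
    have hW : Set.range u.base ⊆ Set.range W.ι.base := by
      rintro _ ⟨x, rfl⟩
      rw [Scheme.Opens.range_ι]
      intro hx
      exact hne (by
        obtain ⟨z, -, hz⟩ := Flat.generalizingMap u (specializes_iff_mem_closure.2 hx)
        exact ⟨z, hz⟩)
    have hfac := IsOpenImmersion.lift_fac W.ι u hW
    haveI : IsSchemeTheoreticallyDominant W.ι := by
      refine ⟨le_bot_iff.1 ?_⟩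
      rw [← u.ker_eq_bot]
      conv_rhs => rw [← hfac]
      exact Scheme.Hom.le_ker_comp _ _
    obtain ⟨_, ⟨V, hV : IsAffineOpen V, rfl⟩, hηV, -⟩ :=
      Y.isBasis_affineOpens.exists_subset_of_mem_open (Set.mem_univ η) isOpen_univ
    haveI : IsNoetherianRing Γ(Y, V) := IsLocallyNoetherian.component_noetherian ⟨V, hV⟩
    obtain ⟨hp, s, hs⟩ := isAssociatedPrime_iff.1 ((mem_ass_affine_iff hV hηV).1 hη)
    have hzero : W.ι.app V s = 0 := by
      refine SchDenseLib.eq_zero_of_germ _ fun z hz => ?_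
      obtain ⟨r, hr, hrz⟩ := Set.not_subset.1 fun hsub => z.2
        (specializes_iff_mem_closure.1 ((AssLib.primeIdealOf_le_iff hV hz hηV).1 hsub))
      have hr' : r ∈ (hV.primeIdealOf ⟨η, hηV⟩).asIdeal := hr
      rw [hs, Submodule.mem_colon_singleton, Submodule.mem_bot] at hr'
      exact (W.ι.germ_stalkMap_apply V z hz s).symm.trans
        ((congrArg (W.ι.stalkMap z).hom ((germ_eq_zero_iff hV hz s).2 ⟨r, hrz, hr'⟩)).trans (map_zero _))
    refine hp.ne_top ?_
    rw [hs, W.ι.app_injective V (hzero.trans (map_zero _).symm)]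
    exact eq_top_iff.2 fun r _ => Submodule.mem_colon_singleton.2 (by simp)
  · intro hsub
    refine ⟨le_bot_iff.1 fun U s hs => ?_⟩
    have h0 : u.app U.1 s = 0 := RingHom.mem_ker.1 (u.ideal_ker_le U hs)
    rw [Scheme.IdealSheafData.ideal_bot, Pi.bot_apply, Ideal.mem_bot]
    by_contra hs0
    haveI : IsNoetherianRing Γ(Y, U.1) := IsLocallyNoetherian.component_noetherian U
    obtain ⟨P, hP, hle⟩ := exists_le_isAssociatedPrime_of_isNoetherianRing Γ(Y, U.1) s hs0
    obtain ⟨y, hyU, hy⟩ := QCoh.exists_point U.2 ⟨P, hP.1⟩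
    have hya : y ∈ AssSch.Ass (Coh.structureModule Y) := (mem_ass_affine_iff U.2 hyU).2 (by rw [hy]; exact hP)
    obtain ⟨x, rfl⟩ := hsub hya
    have hinj : Function.Injective (u.stalkMap x) := by
      letI := (u.stalkMap x).hom.toAlgebra
      haveI : IsLocalHom (algebraMap (Y.presheaf.stalk (u x)) (X.presheaf.stalk x)) :=
        inferInstanceAs (IsLocalHom (u.stalkMap x).hom)
      haveI : Module.Flat (Y.presheaf.stalk (u x)) (X.presheaf.stalk x) := Flat.stalkMap u x
      haveI : Module.FaithfullyFlat (Y.presheaf.stalk (u x)) (X.presheaf.stalk x) :=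
        Module.FaithfullyFlat.of_flat_of_isLocalHom
      exact FaithfulSMul.algebraMap_injective (Y.presheaf.stalk (u x)) (X.presheaf.stalk x)
    have hg : Y.presheaf.germ U.1 (u x) hyU s = 0 := hinj (by
      rw [Scheme.Hom.germ_stalkMap_apply, h0, map_zero, map_zero])
    obtain ⟨r, hr, hrs⟩ := (germ_eq_zero_iff U.2 hyU s).1 hg
    rw [hy] at hr
    exact hr (hle (Submodule.mem_colon_singleton.2 (by rw [Submodule.mem_bot]; exact hrs)))

/-- Associated points pull back along étale morphisms. -/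
theorem mem_ass_iff_of_etale (g : X ⟶ Y) [Etale g] [IsLocallyNoetherian X] [IsLocallyNoetherian Y] (x : X) :
    x ∈ AssSch.Ass (Coh.structureModule X) ↔ g x ∈ AssSch.Ass (Coh.structureModule Y) := by
  rw [AssLib.mem_ass_structureModule_iff, AssLib.mem_ass_structureModule_iff]
  refine ⟨AssLib.depthZero_map g, fun h => ?_⟩
  letI := (g.stalkMap x).hom.toAlgebra
  haveI : IsLocalHom (algebraMap (Y.presheaf.stalk (g x)) (X.presheaf.stalk x)) :=
    inferInstanceAs (IsLocalHom (g.stalkMap x).hom)
  haveI : Module.Flat (Y.presheaf.stalk (g x)) (X.presheaf.stalk x) := Flat.stalkMap g x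
  refine AssLib.depthZero_up h fun P hP hle => ((maximalIdeal.isMaximal _).eq_of_le hP.ne_top ?_).symm
  exact (MorLib.WT.map_maximalIdeal_stalkMap g x).symm.le.trans hle

/-- A morphism to an étale scheme is flat if its composite is. -/
theorem flat_of_comp_etale {S : Scheme.{u}} (v : X ⟶ Y) (g : Y ⟶ S) [Etale g] [Flat (v ≫ g)] : Flat v := by
  have h : v = pullback.lift (𝟙 X) v (Category.id_comp _) ≫ pullback.snd (v ≫ g) g := (pullback.lift_snd _ _ _).symm
  rw [h]
  haveI : Flat (pullback.snd (v ≫ g) g) :=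
    MorphismProperty.IsStableUnderBaseChange.of_isPullback (P := @Flat) (IsPullback.of_hasPullback _ _) ‹_›
  haveI : Etale (pullback.fst (v ≫ g) g) :=
    MorphismProperty.IsStableUnderBaseChange.of_isPullback (P := @Etale) (IsPullback.of_hasPullback _ _).flip ‹Etale g›
  haveI : Etale (pullback.lift (f := v ≫ g) (g := g) (𝟙 X) v (Category.id_comp _) ≫ pullback.fst (v ≫ g) g) := by
    rw [pullback.lift_fst]; infer_instance
  haveI := Etale.of_comp (pullback.lift (f := v ≫ g) (g := g) (𝟙 X) v (Category.id_comp _)) (pullback.fst (v ≫ g) g)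
  infer_instance

end Groth.Agent.AssSTD
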